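import Cfsg.Prelude.Def_ChevE6
import Cfsg.Prelude.Def_ChevStructure

/-!
# Root tables for the two abelian radicals used in the degree bound of E₆(q)
-/

set_option autoImplicit false
set_option synthInstance.maxSize 2000
set_option synthInstance.maxHeartbeats 200000

namespace Cfsg.Agent.E6Deg

open Cfsg.Lie

/-- The root `b + j` of a block of consecutive roots. -/
def blk (b : ℕ) {k : ℕ} (j : Fin k) : ℕ := b + j.val

/-- Where the root `r` sends the `j`-th root of the block, with the sign. -/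
def tgt (b k r : ℕ) (j : Fin k) : Option (Fin k × ℤ) :=
  match chevE6.commTerms r (blk b j) with
  | [] => none
  | c :: _ => ((List.finRange k).find? fun i => blk b i == c.1).map fun i => (i, -c.2.1)

/-- The positive movers reaching the `s`-th coordinate, with the coordinate they create. -/
def cell (b k lo hi : ℕ) (s : Fin k) : List (ℕ × Fin k) :=
  (List.range' lo (hi - lo)).flatMap fun r =>
    ((List.finRange k).filter fun j => (tgt b k r j).map Prod.fst == some s).map fun j => (r, j)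

/-- The moves from the pivot `s` into the coordinates `bs`. -/
def low (b k lo hi : ℕ) (bs : List (Fin k)) (s : Fin k) : List (ℕ × Fin k) :=
  (cell b k lo hi s).filter fun p => bs.contains p.2

/-- What is checked about a block and its movers. -/
def BlockOk (b k lo hi : ℕ) : Prop :=
  ∀ r : Fin (hi - lo), ∀ j : Fin k, blk b j ≠ lo + r.val ∧ blk b j ≠ chevE6.neg (lo + r.val) ∧
    chevE6.commTerms (lo + r.val) (blk b j) =
      (tgt b k (lo + r.val) j).elim [] (fun p => [(blk b p.1, -p.2, 1, 1)]) ∧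
    ∀ p ∈ (tgt b k (lo + r.val) j).toList, (p.2 = 1 ∨ p.2 = -1) ∧ p.1 ≠ j ∧ tgt b k (lo + r.val) p.1 = none

/-- The coordinates not reached from the highest one. -/
def botA : List (Fin 16) := [0, 1, 2, 3, 4]

/-- The coordinates not reached from the highest one. -/
def botB : List (Fin 10) := [0, 1, 4]

/-- Independent moves from a pivot. -/
def StarOk (b k : ℕ) (s : Fin k) (l : List (ℕ × Fin k)) : Prop :=
  (l.map Prod.snd).Nodup ∧ ∀ p ∈ l, (tgt b k p.1 p.2).map Prod.fst = some s ∧ tgt b k p.1 s = none ∧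
    ∀ p' ∈ l, p' ≠ p → tgt b k p'.1 p.2 = none

instance (b k : ℕ) (s : Fin k) (l : List (ℕ × Fin k)) : Decidable (StarOk b k s l) :=
  inferInstanceAs (Decidable (_ ∧ _))

theorem blockA : BlockOk 56 16 16 56 := by
  unfold BlockOk
  decide +kernel

theorem blockB : BlockOk 46 10 26 46 := by
  unfold BlockOk
  decide +kernel

theorem commA : ∀ i j : Fin 16, i ≠ j → blk 56 j ≠ chevE6.neg (blk 56 i) ∧
    chevE6.commTerms (blk 56 i) (blk 56 j) = [] := by decide +kernel

theorem commB : ∀ i j : Fin 10, i ≠ j → blk 46 j ≠ chevE6.neg (blk 46 i) ∧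
    chevE6.commTerms (blk 46 i) (blk 46 j) = [] := by decide +kernel

theorem cellA : ∀ s : Fin 16, StarOk 56 16 s (cell 56 16 36 56 s) := by decide +kernel

theorem cellB : ∀ s : Fin 10, StarOk 46 10 s (cell 46 10 36 46 s) := by decide +kernel

theorem lowA : ∀ s : Fin 16, s ∈ botA → StarOk 56 16 s (low 56 16 26 46 botA s) ∧
    (low 56 16 26 46 botA s).length = 4 ∧ ∀ p ∈ low 56 16 26 46 botA s, p.2 ∈ botA ∧ ∀ j : Fin 16, j ∉ botA →
      ∀ i ∈ (tgt 56 16 p.1 j).toList, i.1 ∉ botA ∧ i.1 ≠ 15 := by decide +kernel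

theorem lowB : ∀ s : Fin 10, s ∈ botB → StarOk 46 10 s (low 46 10 26 46 botB s) ∧
    (low 46 10 26 46 botB s).length = 2 ∧ ∀ p ∈ low 46 10 26 46 botB s, p.2 ∈ botB ∧ ∀ j : Fin 10, j ∉ botB →
      ∀ i ∈ (tgt 46 10 p.1 j).toList, i.1 ∉ botB ∧ i.1 ≠ 9 := by decide +kernel

theorem topA : ∀ j : Fin 16, j = 15 ∨ j ∈ botA ∨ j ∈ (cell 56 16 36 56 15).map Prod.snd := by decide +kernel

theorem topB : ∀ j : Fin 10, j = 9 ∨ j ∈ botB ∨ j ∈ (cell 46 10 36 46 9).map Prod.snd := by decide +kernel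

theorem upA : ∀ s : Fin 16, s = 15 ∨ ∃ s' : Fin 16, s < s' ∧ s ∈ (cell 56 16 36 56 s').map Prod.snd := by
  decide +kernel

theorem upB : ∀ s : Fin 10, s = 9 ∨ ∃ s' : Fin 10, s < s' ∧ s ∈ (cell 46 10 36 46 s').map Prod.snd := by
  decide +kernel

theorem negA : ∀ r : Fin 40, ∀ j : Fin 16, ∀ i ∈ (tgt 56 16 (16 + r.val) j).toList, ∀ j' : Fin 16,
    (tgt 56 16 (16 + r.val) j').map Prod.fst = some i.1 → j' = j := by decide +kernel

theorem posA : ∀ r : Fin 20, ∀ j : Fin 16, ∀ i ∈ (tgt 56 16 (36 + r.val) j).toList, j.val < i.1.val := by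
  decide +kernel

theorem posB : ∀ r : Fin 10, ∀ j : Fin 10, ∀ i ∈ (tgt 46 10 (36 + r.val) j).toList, j.val < i.1.val := by
  decide +kernel

theorem cellA_length : (List.ofFn fun s : Fin 16 => (cell 56 16 36 56 s).length) =
    [0, 1, 2, 3, 4, 3, 4, 5, 5, 6, 7, 6, 7, 8, 9, 10] := by decide +kernel

theorem cellB_length : (List.ofFn fun s : Fin 10 => (cell 46 10 36 46 s).length) =
    [0, 1, 2, 3, 2, 3, 4, 4, 5, 6] := by decide +kernel

end Cfsg.Agent.E6Deg
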