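import Cfsg.Agent.E6Deg.Group
import Cfsg.Agent.Spec.StPres.Final
import Cfsg.Agent.MinDeg.SLTop

/-!
# The Levi subgroup of type A₅
-/

set_option autoImplicit false
set_option linter.unusedSectionVars false

namespace Cfsg.Agent.E6Deg

open Cfsg.Lie
open Module (finrank)

/-- The roots of the subsystem A₅. -/
def rA (i j : Fin 6) : ℕ :=
  (![![0, 56, 57, 58, 59, 60], ![15, 0, 42, 43, 44, 45], ![14, 29, 0, 39, 40, 41], ![13, 28, 32, 0, 37, 38],
    ![12, 27, 31, 34, 0, 36], ![11, 26, 30, 33, 35, 0]] : Fin 6 → Fin 6 → ℕ) i j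

/-- Their signs. -/
def sA (i j : Fin 6) : ℤ :=
  (![![1, 1, -1, 1, -1, 1], ![1, 1, 1, -1, 1, -1], ![-1, 1, 1, 1, -1, 1], ![1, -1, 1, 1, 1, -1],
    ![-1, 1, -1, 1, 1, 1], ![1, -1, 1, -1, 1, 1]] : Fin 6 → Fin 6 → ℤ) i j

theorem rA_lt : ∀ i j : Fin 6, rA i j < 72 := by decide +kernel

theorem rA_comm0 : ∀ i j k l : Fin 6, i ≠ j → k ≠ l → i ≠ l → j ≠ k → ¬(i = k ∧ j = l) →
    rA k l ≠ rA i j ∧ rA k l ≠ chevE6.neg (rA i j) ∧ chevE6.commTerms (rA i j) (rA k l) = [] := by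
  decide +kernel

theorem rA_comm1 : ∀ i j l : Fin 6, i ≠ j → j ≠ l → i ≠ l →
    rA i j ≠ rA j l ∧ rA i j ≠ chevE6.neg (rA j l) ∧
      chevE6.commTerms (rA j l) (rA i j) = [(rA i l, -(sA i j * sA j l * sA i l), 1, 1)] := by decide +kernel

theorem sA_sq : ∀ i j : Fin 6, sA i j * sA i j = 1 := by decide +kernel

variable {F : Type*} [Field F]

/-- The root elements of A₅. -/
noncomputable def xA (i j : Fin 6) (t : F) : Gam F := X (rA i j) ((sA i j : F) * t)

theorem sys_xA : Cfsg.Agent.Spec.StPres.Sys F 6 (xA (F := F)) where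
  add i j _ t u := by rw [xA, xA, xA, X_add (rA_lt i j), mul_add]
  comm0 i j k l hij hkl hil hjk t u := by
    by_cases h : i = k ∧ j = l
    · obtain ⟨rfl, rfl⟩ := h
      rw [xA, xA, X_add (rA_lt i j), X_add (rA_lt i j), add_comm]
    · obtain ⟨h1, h2, h3⟩ := rA_comm0 i j k l hij hkl hil hjk h
      exact (X_commute (rA_lt _ _) (rA_lt _ _) h1 h2 h3 _ _).eq
  comm1 i j l hij hjl hil t u := by
    obtain ⟨h1, h2, h3⟩ := rA_comm1 i j l hij hjl hil
    have hc1 := rA_comm0 i l j l hil hjl hil hjl.symm (fun e => hij e.1)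
    have hc2 := rA_comm0 i l i j hil hij hij hil.symm (fun e => hjl e.2.symm)
    rw [xA, xA, xA, X_comm_one (rA_lt _ _) (rA_lt _ _) h1 h2 h3]
    have c1 := X_commute (F := F) (rA_lt _ _) (rA_lt _ _) hc1.1 hc1.2.1 hc1.2.2
    have c2 := X_commute (F := F) (rA_lt _ _) (rA_lt _ _) hc2.1 hc2.2.1 hc2.2.2
    rw [mul_assoc, ← (c2 _ _).eq, ← mul_assoc, ← (c1 _ _).eq]
    congr 2
    congr 1
    have e : (sA i l : F) * (sA i l : F) = 1 := by
      rw [← Int.cast_mul, sA_sq, Int.cast_one]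
    have e2 : (sA i j : F) * (sA i j : F) = 1 := by
      rw [← Int.cast_mul, sA_sq, Int.cast_one]
    have e3 : (sA j l : F) * (sA j l : F) = 1 := by
      rw [← Int.cast_mul, sA_sq, Int.cast_one]
    push_cast
    linear_combination ((sA i l : F) * (sA i j : F) * (sA i j : F) * t * u) * e3 + ((sA i l : F) * t * u) * e2

variable [Fintype F] {V : Type*} [AddCommGroup V] [Module ℂ V] [FiniteDimensional ℂ V]

/-- The least degree of a nontrivial representation of SL₆, transported. -/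
theorem le_finrank_levi (ρ : Representation ℂ (Gam F) V) (W : Submodule ℂ V)
    (hW : ∀ i j : Fin 6, i ≠ j → ∀ t : F, ∀ w ∈ W, ρ (X (rA i j) t) w ∈ W)
    (hnt : ∃ t : F, ∃ w ∈ W, ρ (X 56 t) w ≠ w) :
    Fintype.card F ^ 6 - Fintype.card F ≤ (Fintype.card F - 1) * finrank ℂ W := by
  classical
  obtain ⟨Φ, hΦ⟩ := Cfsg.Agent.Spec.StPres.exists_hom (K := F) (show 3 ≤ 6 by norm_num) sys_xA
  have hstab : ∀ g, ∀ w ∈ W, ρ (Φ g) w ∈ W := fun g =>
    Linear.transvection_induction (fun g => ∀ w ∈ W, ρ (Φ g) w ∈ W)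
      (fun i j h c w hw => by rw [hΦ i j h c]; exact hW i j h _ w hw)
      (fun a b ha hb w hw => by rw [map_mul, map_mul, Module.End.mul_apply]; exact ha _ (hb w hw)) g
  let e : W ≃ₗ[ℂ] (Fin (finrank ℂ W) → ℂ) := (Module.finBasis ℂ W).equivFun
  let σ : Representation ℂ (Matrix.SpecialLinearGroup (Fin 6) F) (Fin (finrank ℂ W) → ℂ) :=
    { toFun := fun g => e.conj ((ρ (Φ g)).restrict (hstab g))
      map_one' := by
        rw [show (ρ (Φ 1)).restrict (hstab 1) = LinearMap.id from LinearMap.ext fun w => Subtype.ext (by simp)]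
        exact LinearEquiv.conj_id _
      map_mul' := fun a b => by
        rw [show (ρ (Φ (a * b))).restrict (hstab (a * b)) =
          ((ρ (Φ a)).restrict (hstab a)).comp ((ρ (Φ b)).restrict (hstab b)) from
            LinearMap.ext fun w => Subtype.ext (by simp)]
        exact LinearEquiv.conj_comp _ _ _ }
  obtain ⟨R, hR, hker⟩ := MinDeg.SLMin.exists_unitary σ
  have hntR : ∃ g, R g ≠ 1 := by
    obtain ⟨t, w, hw, hne⟩ := hnt
    refine ⟨Matrix.SpecialLinearGroup.transvection (show (0 : Fin 6) ≠ 1 by decide) t, fun h => hne ?_⟩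
    have h1 := LinearMap.congr_fun (hker _ h) (e ⟨w, hw⟩)
    simp only [σ, MonoidHom.coe_mk, OneHom.coe_mk, LinearEquiv.conj_apply_apply, LinearEquiv.symm_apply_apply,
      Module.End.one_apply, EmbeddingLike.apply_eq_iff_eq] at h1
    have h2 := congrArg Subtype.val h1
    rw [LinearMap.restrict_coe_apply, hΦ 0 1 (by decide) t] at h2
    simpa [xA, rA, sA] using h2
  have hb := MinDeg.SLMin.degree_bound (m := 3) hR hntR (by simp)
  have hq := Fintype.one_lt_card (α := F)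
  have h : (((Fintype.card F ^ 6 - Fintype.card F : ℕ) : ℕ) : ℝ) ≤
      (((Fintype.card F - 1) * finrank ℂ W : ℕ) : ℝ) := by
    rw [Nat.cast_sub (Nat.le_self_pow (by norm_num) _), Nat.cast_mul, Nat.cast_sub hq.le, Nat.cast_pow,
      Nat.cast_one]
    norm_num at hb ⊢
    linarith
  exact_mod_cast h

end Cfsg.Agent.E6Deg
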